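import Cfsg.Agent.H356.TA.GD
import Cfsg.Agent.H356.TI.Fix

/-!
# Eigenvalues of diagonal matrices on the modules of `SL_{n+1}`, own characteristic
-/

set_option autoImplicit false
set_option linter.unusedSectionVars false
set_option linter.unusedSimpArgs false

namespace Cfsg.Agent.H356.TA

open Matrix Cfsg.Agent.H45.UniE Cfsg.Agent.H356.MinA

variable {n : ℕ} {k : Type*} [Field k] [Infinite k]

/-- the multiset of minors -/
def MM (m : Fin n → ℕ) : Multiset (ℕ × ℕ) := ∑ j : Fin n, Multiset.replicate (m j) ((j : ℕ) + 1, 0)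

theorem mem_MM {m : Fin n → ℕ} {c : ℕ × ℕ} (h : c ∈ MM m) : ∃ j : Fin n, c = ((j : ℕ) + 1, 0) := by
  unfold MM at h
  rw [Multiset.mem_sum] at h
  obtain ⟨j, -, hj⟩ := h
  exact ⟨j, Multiset.eq_of_mem_replicate hj⟩

theorem F_MM (m : Fin n → ℕ) (w : ℕ → ℕ → k) : F (MM m) w = ∏ j : Fin n, mn w ((j : ℕ) + 1) 0 ^ m j := by
  unfold MM
  classical
  induction (Finset.univ : Finset (Fin n)) using Finset.induction_on with
  | empty => simp [F]
  | insert a S ha ih => rw [Finset.sum_insert ha, Finset.prod_insert ha, F_add, F_replicate, ih]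

theorem fst_MM (m : Fin n → ℕ) : ((MM m).map Prod.fst).sum = ∑ j : Fin n, ((j : ℕ) + 1) * m j := by
  unfold MM
  classical
  induction (Finset.univ : Finset (Fin n)) using Finset.induction_on with
  | empty => simp
  | insert a S ha ih =>
    rw [Finset.sum_insert ha, Finset.sum_insert ha, Multiset.map_add, Multiset.sum_add, ih, Multiset.map_replicate,
      Multiset.sum_replicate, smul_eq_mul, mul_comm]

theorem count_MM (m : Fin n → ℕ) {p : ℕ} (hm : ∀ j, m j < p) (hp : 0 < p) (i : ℕ) :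
    ((MM m).map fun c => c.1 + c.2).count i < p := by
  have h : ∀ S : Finset (Fin n), ((∑ j ∈ S, Multiset.replicate (m j) ((j : ℕ) + 1, 0)).map fun c : ℕ × ℕ => c.1 + c.2).count i =
      ∑ j ∈ S, if (j : ℕ) + 1 = i then m j else 0 := by
    classical
    intro S
    induction S using Finset.induction_on with
    | empty => simp
    | insert a S ha ih =>
      rw [Finset.sum_insert ha, Finset.sum_insert ha, Multiset.map_add, Multiset.count_add, ih, Multiset.map_replicate,
        Multiset.count_replicate]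
      rfl
  unfold MM
  rw [h]
  by_cases hi : ∃ j : Fin n, (j : ℕ) + 1 = i
  · obtain ⟨j, hj⟩ := hi
    rw [Finset.sum_eq_single j, if_pos hj]
    · exact hm j
    · intro b _ hb
      rw [if_neg]
      intro h1
      exact hb (Fin.ext (by omega))
    · intro h1; exact absurd (Finset.mem_univ _) h1
  · rw [Finset.sum_eq_zero]
    · exact hp
    · intro j _
      rw [if_neg fun h1 => hi ⟨j, h1⟩]

/-- the product of the leading minors -/
def pm (m : Fin n → ℕ) (g : Matrix (Fin (n + 1)) (Fin (n + 1)) k) : k := ∏ j : Fin n, ld ((j : ℕ) + 1) g ^ m j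

theorem mn_W (A : ℕ → Fin (n + 1) → k) (B : Fin (n + 1) → ℕ → k) (X : Fin (n + 1) → k) (j : Fin n) :
    mn (W A B X) ((j : ℕ) + 1) 0 =
      ld ((j : ℕ) + 1) ((Matrix.of fun (i : Fin (n + 1)) x => A i x) * diagonal X *
        (Matrix.of fun x (i : Fin (n + 1)) => B x i)) := by
  rw [ld_eq (le_of_fin j)]
  unfold mn
  congr 1
  ext a b
  rw [blk, Matrix.of_apply, Matrix.of_apply, Matrix.mul_apply, Nat.zero_add]
  unfold W
  refine Finset.sum_congr rfl fun x _ => ?_
  rw [Matrix.mul_diagonal, Matrix.of_apply, Matrix.of_apply]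
  rfl

/-- the span over all matrices -/
theorem V_le {α : Type*} (X : α → Fin (n + 1) → k) (m : Fin n → ℕ) : V X (MM m) ≤
    Submodule.span k (Set.range fun AB : Matrix (Fin (n + 1)) (Fin (n + 1)) k × Matrix (Fin (n + 1)) (Fin (n + 1)) k =>
      fun a => pm m (AB.1 * diagonal (X a) * AB.2)) := by
  unfold V
  rw [Submodule.span_le]
  rintro _ ⟨⟨A, B⟩, rfl⟩
  refine Submodule.subset_span ⟨(Matrix.of fun i x => A i x, Matrix.of fun x i => B x i), ?_⟩
  funext a
  show pm m _ = F (MM m) (W A B (X a))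
  rw [F_MM]
  unfold pm
  exact Finset.prod_congr rfl fun j _ => by rw [mn_W]

open Polynomial in
/-- a polynomial family -/
theorem pm_pol (m : Fin n → ℕ) (M N : Matrix (Fin (n + 1)) (Fin (n + 1)) k) :
    ∃ P : k[X], ∀ s : k, pm m (M + s • N) = P.eval s := by
  choose P hP using fun j : Fin n => (⟨_, fun s => (ld_pol (le_of_fin j) (fun s : k => M + s • N)
    (fun u v => C (M u v) + C (N u v) * X) 1 (fun u v => by
      refine (natDegree_add_le _ _).trans (max_le ?_ ?_)
      · rw [natDegree_C]; exact Nat.zero_le _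
      · exact (natDegree_C_mul_le _ _).trans natDegree_X_le) s (fun u v => by
        rw [Matrix.add_apply, Matrix.smul_apply, eval_add, eval_mul, eval_C, eval_C, eval_X, smul_eq_mul, mul_comm s])).2⟩ :
      ∃ P : k[X], ∀ s : k, ld ((j : ℕ) + 1) (M + s • N) = P.eval s)
  refine ⟨∏ j, P j ^ m j, fun s => ?_⟩
  rw [eval_prod]
  unfold pm
  exact Finset.prod_congr rfl fun j _ => by rw [eval_pow, hP]

open Polynomial in
/-- only finitely many `A + s` are singular -/
theorem bad_finite (A : Matrix (Fin (n + 1)) (Fin (n + 1)) k) :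
    ∃ S : Finset k, ∀ s, s ∉ S → (A + s • (1 : Matrix (Fin (n + 1)) (Fin (n + 1)) k)).det ≠ 0 := by
  classical
  refine ⟨((-A).charpoly.roots).toFinset, fun s hs h0 => hs ?_⟩
  rw [Multiset.mem_toFinset, mem_roots (Matrix.charpoly_monic _).ne_zero, IsRoot, Matrix.eval_charpoly]
  rw [← h0]
  congr 1
  rw [Matrix.scalar_apply, ← Matrix.smul_one_eq_diagonal, sub_neg_eq_add]
  exact _root_.add_comm _ _

/-- the span over the invertible matrices -/
theorem span_GL {α : Type*} [Finite α] (X : α → Fin (n + 1) → k) (m : Fin n → ℕ)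
    (A B : Matrix (Fin (n + 1)) (Fin (n + 1)) k) : (fun a => pm m (A * diagonal (X a) * B)) ∈
    Submodule.span k (Set.range fun AB : {A : Matrix (Fin (n + 1)) (Fin (n + 1)) k // A.det ≠ 0} ×
      {A : Matrix (Fin (n + 1)) (Fin (n + 1)) k // A.det ≠ 0} => fun a => pm m (AB.1.1 * diagonal (X a) * AB.2.1)) := by
  classical
  set V0 := Submodule.span k (Set.range fun AB : {A : Matrix (Fin (n + 1)) (Fin (n + 1)) k // A.det ≠ 0} ×
      {A : Matrix (Fin (n + 1)) (Fin (n + 1)) k // A.det ≠ 0} => fun a => pm m (AB.1.1 * diagonal (X a) * AB.2.1)) with hV0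
  have h1 : ∀ A B : Matrix (Fin (n + 1)) (Fin (n + 1)) k, A.det ≠ 0 → (fun a => pm m (A * diagonal (X a) * B)) ∈ V0 := by
    intro A B hA
    obtain ⟨S, hS⟩ := bad_finite B
    choose P hP using fun a => pm_pol m (A * diagonal (X a) * B) (A * diagonal (X a))
    have h2 := coeff_mem V0 P S (fun s hs => by
      refine Submodule.subset_span ⟨(⟨A, hA⟩, ⟨B + s • 1, hS s hs⟩), ?_⟩
      funext a
      rw [← hP]
      show pm m (A * diagonal (X a) * (B + s • 1)) = _
      rw [Matrix.mul_add, Matrix.mul_smul, Matrix.mul_one]) 0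
    have e : (fun a => (P a).coeff 0) = fun a => pm m (A * diagonal (X a) * B) := by
      funext a
      rw [Polynomial.coeff_zero_eq_eval_zero, ← hP, zero_smul, add_zero]
    rwa [e] at h2
  obtain ⟨S, hS⟩ := bad_finite A
  choose P hP using fun a => pm_pol m (A * diagonal (X a) * B) (diagonal (X a) * B)
  have h2 := coeff_mem V0 P S (fun s hs => by
    have h3 := h1 (A + s • 1) B (hS s hs)
    have e : (fun a => (P a).eval s) = fun a => pm m ((A + s • 1) * diagonal (X a) * B) := by
      funext a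
      rw [← hP, Matrix.add_mul, Matrix.add_mul, Matrix.smul_mul, Matrix.smul_mul, Matrix.one_mul]
    rw [e]
    exact h3) 0
  have e : (fun a => (P a).coeff 0) = fun a => pm m (A * diagonal (X a) * B) := by
    funext a
    rw [Polynomial.coeff_zero_eq_eval_zero, ← hP, zero_smul, add_zero]
  rwa [e] at h2

/-- scaling the last coordinate does not change the leading minors -/
theorem pm_scale_left (m : Fin n → ℕ) (d : k) (M : Matrix (Fin (n + 1)) (Fin (n + 1)) k) :
    pm m (diagonal (Function.update (fun _ => (1 : k)) (Fin.last n) d) * M) = pm m M := by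
  unfold pm
  refine Finset.prod_congr rfl fun j _ => ?_
  rw [ld_eq (le_of_fin j), ld_eq (le_of_fin j)]
  congr 2
  ext a b
  rw [blk, Matrix.of_apply, blk, Matrix.of_apply, Matrix.diagonal_mul, Function.update_of_ne, one_mul]
  intro h
  have := congrArg Fin.val h
  simp at this
  omega

theorem pm_scale_right (m : Fin n → ℕ) (d : k) (M : Matrix (Fin (n + 1)) (Fin (n + 1)) k) :
    pm m (M * diagonal (Function.update (fun _ => (1 : k)) (Fin.last n) d)) = pm m M := by
  unfold pm
  refine Finset.prod_congr rfl fun j _ => ?_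
  rw [ld_eq (le_of_fin j), ld_eq (le_of_fin j)]
  congr 2
  ext a b
  rw [blk, Matrix.of_apply, blk, Matrix.of_apply, Matrix.mul_diagonal, Function.update_of_ne, mul_one]
  intro h
  have := congrArg Fin.val h
  simp at this
  omega

theorem det_scale (d : k) : (diagonal (Function.update (fun _ => (1 : k)) (Fin.last n) d)).det = d := by
  rw [Matrix.det_diagonal, Finset.prod_update_of_mem (Finset.mem_univ _)]
  simp

/-- the span over `SL` -/
theorem span_SL {α : Type*} [Finite α] (X : α → Fin (n + 1) → k) (m : Fin n → ℕ)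
    (A B : Matrix (Fin (n + 1)) (Fin (n + 1)) k) : (fun a => pm m (A * diagonal (X a) * B)) ∈
    Submodule.span k (Set.range fun AB : SpecialLinearGroup (Fin (n + 1)) k × SpecialLinearGroup (Fin (n + 1)) k =>
      fun a => pm m (AB.1.1 * diagonal (X a) * AB.2.1)) := by
  refine Submodule.span_mono ?_ (span_GL X m A B)
  rintro _ ⟨⟨⟨A, hA⟩, ⟨B, hB⟩⟩, rfl⟩
  refine ⟨(⟨diagonal (Function.update (fun _ => (1 : k)) (Fin.last n) A.det⁻¹) * A, ?_⟩,
    ⟨B * diagonal (Function.update (fun _ => (1 : k)) (Fin.last n) B.det⁻¹), ?_⟩), ?_⟩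
  · rw [Matrix.det_mul, det_scale, inv_mul_cancel₀ hA]
  · rw [Matrix.det_mul, det_scale, mul_inv_cancel₀ hB]
  · funext a
    show pm m (diagonal _ * A * diagonal (X a) * (B * diagonal _)) = pm m (A * diagonal (X a) * B)
    rw [← Matrix.mul_assoc, pm_scale_right, Matrix.mul_assoc, Matrix.mul_assoc, pm_scale_left, ← Matrix.mul_assoc]

/-- **eigenvalues of diagonal matrices** -/
theorem eig_diag {p : ℕ} [Fact p.Prime] [CharP k p] {t : SpecialLinearGroup (Fin (n + 1)) k} {θ : Fin (n + 1) → k}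
    (ht : t.1 = diagonal θ) (r : ℕ) {m : Fin n → ℕ} (hm : ∀ j, m j < p) {J : Finset (Fin (n + 1))}
    (hJ : J.card = (∑ j : Fin n, ((j : ℕ) + 1) * m j) % (n + 1)) : (fdA n k).Eig t r m (∏ j ∈ J, θ j) := by
  classical
  have hpp : p.Prime := Fact.out
  set S := ∑ j : Fin n, ((j : ℕ) + 1) * m j with hS
  set μ : Fin (n + 1) → ℕ := fun i => S / (n + 1) + if i ∈ J then 1 else 0 with hμ
  have hdet : ∏ i, θ i = 1 := by
    have h1 := t.2
    rw [ht, Matrix.det_diagonal] at h1
    exact h1
  have h1 := occ (k := k) (p := p) (n + 1) (MM m) μ (fun c hc => by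
    obtain ⟨j, rfl⟩ := mem_MM hc
    exact le_of_fin j) (count_MM m hm hpp.pos) (by
      rw [fst_MM, ← hS, hμ, Finset.sum_add_distrib, Finset.sum_const, Finset.card_univ, Fintype.card_fin, smul_eq_mul,
        Finset.sum_ite_mem, Finset.univ_inter, Finset.sum_const, smul_eq_mul, mul_one, hJ]
      exact Nat.div_add_mod S (n + 1)) (fun i j => by
        rw [hμ]
        beta_reduce
        split_ifs <;> omega) (fun (i : Fin r) x => θ x ^ (i : ℕ))
  have e1 : (fun i : Fin r => ∏ x, (θ x ^ (i : ℕ)) ^ μ x) = fun i : Fin r => (∏ j ∈ J, θ j) ^ (i : ℕ) := by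
    funext i
    have h2 : ∀ x, (θ x ^ (i : ℕ)) ^ μ x = ((θ x ^ μ x)) ^ (i : ℕ) := fun x => by rw [← pow_mul, ← pow_mul, mul_comm]
    rw [Finset.prod_congr rfl fun x _ => h2 x, Finset.prod_pow]
    congr 1
    rw [hμ]
    have h3 : ∀ x, θ x ^ (S / (n + 1) + if x ∈ J then 1 else 0) = θ x ^ (S / (n + 1)) * (if x ∈ J then θ x else 1) := by
      intro x
      rw [pow_add]
      split_ifs
      · rw [pow_one]
      · rw [pow_zero]
    rw [Finset.prod_congr rfl fun x _ => h3 x, Finset.prod_mul_distrib, Finset.prod_pow, hdet, one_pow, one_mul,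
      Finset.prod_ite_mem, Finset.univ_inter]
  rw [e1] at h1
  have h2 := V_le _ m h1
  unfold FDat.Eig
  -- from all matrices to `SL`
  have h3 : ∀ i : ℕ, (t ^ i).1 = diagonal fun x => θ x ^ i := by
    intro i
    have h4 : (t ^ i).1 = t.1 ^ i := Matrix.SpecialLinearGroup.coe_pow t i
    rw [h4, ht, Matrix.diagonal_pow]
    rfl
  generalize (fun i : Fin r => (∏ j ∈ J, θ j) ^ (i : ℕ)) = f0 at h2 ⊢
  induction h2 using Submodule.span_induction with
  | mem f hf =>
    obtain ⟨⟨A, B⟩, rfl⟩ := hf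
    refine Submodule.span_mono ?_ (span_SL (fun (i : Fin r) x => θ x ^ (i : ℕ)) m A B)
    rintro _ ⟨⟨h, g⟩, rfl⟩
    refine ⟨(h, g), ?_⟩
    funext i
    show ∏ j : Fin n, ld ((j : ℕ) + 1) (h.1 * (t ^ (i : ℕ)).1 * g.1) ^ m j = _
    rw [h3]
    rfl
  | zero => exact Submodule.zero_mem _
  | add f g _ _ h4 h5 => exact Submodule.add_mem _ h4 h5
  | smul c f _ h4 => exact Submodule.smul_mem _ _ h4

/-- **eigenvalues of diagonalisable matrices** -/
theorem eig_of_conj {p : ℕ} [Fact p.Prime] [CharP k p] {x : SpecialLinearGroup (Fin (n + 1)) k} {θ : Fin (n + 1) → k}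
    {g : GL (Fin (n + 1)) k} (hx : x.1 = g.1 * diagonal θ * (g⁻¹).1) (r : ℕ) {m : Fin n → ℕ} (hm : ∀ j, m j < p)
    {J : Finset (Fin (n + 1))} (hJ : J.card = (∑ j : Fin n, ((j : ℕ) + 1) * m j) % (n + 1)) :
    (fdA n k).Eig x r m (∏ j ∈ J, θ j) := by
  have hg : g.1.det ≠ 0 := ((Matrix.isUnit_iff_isUnit_det _).1 g.isUnit).ne_zero
  -- normalise the determinant
  set d : k := g.1.det⁻¹ with hd
  have hd0 : d ≠ 0 := inv_ne_zero hg
  set s : Matrix (Fin (n + 1)) (Fin (n + 1)) k := diagonal (Function.update (fun _ => (1 : k)) (Fin.last n) d) with hs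
  let g0 : SpecialLinearGroup (Fin (n + 1)) k := ⟨g.1 * s, by rw [Matrix.det_mul, hs, det_scale, hd, mul_inv_cancel₀ hg]⟩
  have hdet : (diagonal θ).det = 1 := by
    have h1 := x.2
    rw [hx, Matrix.det_mul, Matrix.det_mul] at h1
    have h2 : g.1.det * (g⁻¹).1.det = 1 := by
      rw [← Matrix.det_mul, ← Units.val_mul, mul_inv_cancel, Units.val_one, Matrix.det_one]
    linear_combination h1 - (diagonal θ).det * h2
  let t : SpecialLinearGroup (Fin (n + 1)) k := ⟨diagonal θ, hdet⟩
  have hxt : x = g0 * t * g0⁻¹ := by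
    rw [eq_mul_inv_iff_mul_eq]
    apply Subtype.ext
    show x.1 * (g.1 * s) = g.1 * s * diagonal θ
    have h1 : s * diagonal θ = diagonal θ * s := by
      rw [hs, Matrix.diagonal_mul_diagonal, Matrix.diagonal_mul_diagonal]
      congr 1
      funext a
      exact mul_comm _ _
    have h2 : (g⁻¹).1 * g.1 = 1 := by rw [← Units.val_mul, inv_mul_cancel, Units.val_one]
    rw [hx, Matrix.mul_assoc g.1 s, h1, ← Matrix.mul_assoc, Matrix.mul_assoc (g.1 * diagonal θ), h2, Matrix.mul_one,
      Matrix.mul_assoc]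
  rw [hxt]
  exact (eig_diag rfl r hm hJ).conj g0

end Cfsg.Agent.H356.TA
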