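import Cfsg.Agent.H356.TI.MinA
import Mathlib.LinearAlgebra.Matrix.Polynomial
import Mathlib.LinearAlgebra.Matrix.Block

/-!
# Leading minors
-/

set_option autoImplicit false
set_option linter.unusedSectionVars false

namespace Cfsg.Agent.H356.TA

open Polynomial Finset Cfsg.Agent.H356.MinA

variable {R : Type*} [CommRing R] {n : ℕ}

/-- a square matrix as a function on natural numbers -/
def nat (g : Matrix (Fin n) (Fin n) R) (i j : ℕ) : R := if h : i < n ∧ j < n then g ⟨i, h.1⟩ ⟨j, h.2⟩ else 0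

theorem nat_fin (g : Matrix (Fin n) (Fin n) R) (i j : Fin n) : nat g i j = g i j := by
  unfold nat
  rw [dif_pos ⟨i.2, j.2⟩]

/-- the leading minor of size `l` -/
def ld (l : ℕ) (g : Matrix (Fin n) (Fin n) R) : R := mn (nat g) l 0

/-- the leading block -/
def blk {l : ℕ} (h : l ≤ n) (g : Matrix (Fin n) (Fin n) R) : Matrix (Fin l) (Fin l) R :=
  Matrix.of fun i j => g (Fin.castLE h i) (Fin.castLE h j)

theorem ld_eq {l : ℕ} (h : l ≤ n) (g : Matrix (Fin n) (Fin n) R) : ld l g = (blk h g).det := by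
  unfold ld mn
  congr 1
  ext i j
  rw [Matrix.of_apply, blk, Matrix.of_apply, Nat.zero_add]
  exact nat_fin g (Fin.castLE h i) (Fin.castLE h j)

theorem ld_one {l : ℕ} (h : l ≤ n) : ld l (1 : Matrix (Fin n) (Fin n) R) = 1 := by
  rw [ld_eq h]
  have e : blk h (1 : Matrix (Fin n) (Fin n) R) = 1 := by
    ext i j
    rw [blk, Matrix.of_apply, Matrix.one_apply, Matrix.one_apply]
    congr 1
    rw [eq_iff_iff, Fin.castLE_inj]
  rw [e, Matrix.det_one]

theorem ld_transpose {l : ℕ} (h : l ≤ n) (g : Matrix (Fin n) (Fin n) R) : ld l g.transpose = ld l g := by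
  rw [ld_eq h, ld_eq h, ← Matrix.det_transpose]
  rfl

theorem ld_mul_upper {l : ℕ} (h : l ≤ n) (g U : Matrix (Fin n) (Fin n) R) (hU : ∀ a b, b < a → U a b = 0) :
    ld l (g * U) = ld l g * ld l U := by
  rw [ld_eq h, ld_eq h, ld_eq h, ← Matrix.det_mul]
  congr 1
  obtain ⟨m, rfl⟩ : ∃ m, n = l + m := ⟨n - l, by omega⟩
  ext i j
  rw [blk, Matrix.of_apply, Matrix.mul_apply, Matrix.mul_apply, Fin.sum_univ_add]
  have h0 : ∑ c : Fin m, g (Fin.castLE h i) (Fin.natAdd l c) * U (Fin.natAdd l c) (Fin.castLE h j) = 0 := by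
    refine Finset.sum_eq_zero fun c _ => ?_
    rw [hU, mul_zero]
    rw [Fin.lt_def]
    show (j : ℕ) < l + c
    omega
  rw [h0, add_zero]
  rfl

theorem ld_diagonal {l : ℕ} (h : l ≤ n) (d : Fin n → R) :
    ld l (Matrix.diagonal d) = ∏ i : Fin l, d (Fin.castLE h i) := by
  rw [ld_eq h]
  have e : blk h (Matrix.diagonal d) = Matrix.diagonal fun i => d (Fin.castLE h i) := by
    ext i j
    rw [blk, Matrix.of_apply, Matrix.diagonal_apply, Matrix.diagonal_apply]
    by_cases hij : i = j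
    · rw [if_pos hij, if_pos (by rw [hij])]
    · rw [if_neg hij, if_neg (fun h' => hij (Fin.castLE_inj.1 h'))]
  rw [e, Matrix.det_diagonal]

theorem ld_upper {l : ℕ} (h : l ≤ n) (U : Matrix (Fin n) (Fin n) R) (hU : ∀ a b, b < a → U a b = 0)
    (hU1 : ∀ a, U a a = 1) : ld l U = 1 := by
  rw [ld_eq h, Matrix.det_of_upperTriangular]
  · refine Finset.prod_eq_one fun i _ => ?_
    exact hU1 _
  · intro i j hij
    exact hU _ _ hij

/-- the degree of a determinant -/
theorem natDegree_det_le {l : ℕ} (A : Matrix (Fin l) (Fin l) R[X]) (d : ℕ) (h : ∀ i j, (A i j).natDegree ≤ d) :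
    A.det.natDegree ≤ l * d := by
  rw [Matrix.det_apply]
  refine natDegree_sum_le_of_forall_le _ _ fun σ _ => ?_
  refine (natDegree_smul_le _ _).trans ?_
  refine (natDegree_prod_le _ _).trans ?_
  refine (Finset.sum_le_sum fun i _ => h (σ i) i).trans ?_
  rw [Finset.sum_const, Finset.card_univ, Fintype.card_fin, smul_eq_mul]

/-- leading minors of a polynomial family of matrices -/
theorem ld_pol {l : ℕ} (h : l ≤ n) (f : R → Matrix (Fin n) (Fin n) R) (P : Fin n → Fin n → R[X]) (d : ℕ)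
    (hP : ∀ i j, (P i j).natDegree ≤ d) (s : R) (hf : ∀ i j, f s i j = (P i j).eval s) :
    ((Matrix.of fun i j : Fin l => P (Fin.castLE h i) (Fin.castLE h j)).det.natDegree ≤ l * d) ∧
      ld l (f s) = ((Matrix.of fun i j : Fin l => P (Fin.castLE h i) (Fin.castLE h j)).det).eval s := by
  refine ⟨natDegree_det_le _ _ fun i j => hP _ _, ?_⟩
  rw [ld_eq h, ← coe_evalRingHom, RingHom.map_det]
  congr 1
  ext i j
  rw [blk, Matrix.of_apply, hf]
  rfl

end Cfsg.Agent.H356.TA
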