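import Cfsg.Agent.H356.TA.Emb
import Cfsg.Agent.H356.TA.Ld
import Cfsg.Agent.H45.UniE.Def

/-!
# The group data and the fundamental functions of `SL_{n+1}`
-/

set_option autoImplicit false
set_option linter.unusedSectionVars false
set_option linter.unusedSimpArgs false

namespace Cfsg.Agent.H356.TA

open Matrix Cfsg.Agent.H421.UniE Cfsg.Agent.H45.UniE Cfsg.Agent.TitsThree.KSideA Cfsg.Agent.Nodes.RGDTypeA
  Cfsg.Agent.LieClassical.SLGen

variable {n : ℕ} {k : Type*} [Field k]

/-- the positive roots -/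
abbrev Pos (n : ℕ) : Type := {z : Fin (n + 1) × Fin (n + 1) // z.1 < z.2}

theorem cs_ne (i : Fin n) : i.castSucc ≠ i.succ := (Fin.castSucc_lt_succ).ne

/-- diagonal matrices -/
def dl (c : Fin (n + 1) → kˣ) (h : ∏ i, c i = 1) : SpecialLinearGroup (Fin (n + 1)) k :=
  ⟨diagonal fun i => (c i : k), by rw [det_diagonal, ← Units.coe_prod, h, Units.val_one]⟩

theorem dl_mem (c : Fin (n + 1) → kˣ) (h : ∏ i, c i = 1) : dl c h ∈ T (Fin (n + 1)) k := by
  rw [mem_T]
  intro a b hab
  by_contra h0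
  exact hab (Matrix.diagonal_apply_ne _ h0)

theorem T_eq_diagonal {t : SpecialLinearGroup (Fin (n + 1)) k} (ht : t ∈ T (Fin (n + 1)) k) :
    t.1 = diagonal fun i => t.1 i i := by
  ext a b
  rw [Matrix.diagonal_apply]
  by_cases h : a = b
  · rw [if_pos h, h]
  · rw [if_neg h]
    by_contra h0
    exact h (mem_T.1 ht a b h0)

theorem T_tv {t : SpecialLinearGroup (Fin (n + 1)) k} (ht : t ∈ T (Fin (n + 1)) k) {a b : Fin (n + 1)} (hab : a ≠ b)
    (s : k) : t * tv a b s = tv a b (t.1 a a * s * (t.1 b b)⁻¹) * t := by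
  have h := (mem_T.1 ht).conj_tv hab s
  rw [mul_inv_eq_iff_eq_mul] at h
  exact h

theorem tv_T {t : SpecialLinearGroup (Fin (n + 1)) k} (ht : t ∈ T (Fin (n + 1)) k) {a b : Fin (n + 1)} (hab : a ≠ b)
    (s : k) : tv a b s * t = t * tv a b ((t.1 a a)⁻¹ * t.1 b b * s) := by
  have h1 : t.1 a a ≠ 0 := (mem_T.1 ht).apply_ne_zero a
  have h2 : t.1 b b ≠ 0 := (mem_T.1 ht).apply_ne_zero b
  rw [T_tv ht hab]
  congr 2
  field_simp

theorem sum_exp (n : ℕ) : ∑ a : Fin (n + 1), ((n : ℤ) - 2 * (a : ℕ)) = 0 := by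
  rw [Fin.sum_univ_eq_sum_range (fun a => (n : ℤ) - 2 * (a : ℕ)) (n + 1)]
  have h : ∀ m : ℕ, ∑ a ∈ Finset.range m, ((n : ℤ) - 2 * (a : ℕ)) = m * n - m * (m - 1) := by
    intro m
    induction m with
    | zero => simp
    | succ m ih => rw [Finset.sum_range_succ, ih]; push_cast; ring
  rw [h]
  push_cast
  ring

theorem prod_zpow' {ι : Type*} [Fintype ι] (s : kˣ) (f : ι → ℤ) : ∏ a, s ^ f a = s ^ ∑ a, f a := by
  classical
  induction (Finset.univ : Finset ι) using Finset.induction_on with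
  | empty => simp
  | insert a S ha ih => rw [Finset.prod_insert ha, Finset.sum_insert ha, _root_.zpow_add, ih]

/-- the grading -/
def dlt (n : ℕ) {k : Type*} [Field k] (s : kˣ) : SpecialLinearGroup (Fin (n + 1)) k :=
  dl (fun a => s ^ ((n : ℤ) - 2 * (a : ℕ))) (by rw [prod_zpow', sum_exp, zpow_zero])

/-- the coroots -/
noncomputable def hA (i : Fin n) (c : kˣ) : SpecialLinearGroup (Fin (n + 1)) k :=
  SpecialLinearGroup.diag2n (cs_ne i) (c : k) c.ne_zero

theorem emb_dg' (i : Fin n) (c : kˣ) : emb (cs_ne i) (dg c) = hA i c := emb_dg _ c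

theorem tr_tv {a b : Fin (n + 1)} (hab : a ≠ b) (s : k) : (tv a b s).transpose = tv b a s := by
  apply Subtype.ext
  show (tv a b s).1.transpose = (tv b a s).1
  rw [tv_val hab, tv_val hab.symm, Matrix.transpose_add, Matrix.transpose_one, Matrix.transpose_single]

theorem gen_A : Subgroup.closure {g : SpecialLinearGroup (Fin (n + 1)) k |
    ∃ (i : Fin n) (s : k), g = tv i.castSucc i.succ s ∨ g = tv i.succ i.castSucc s} = ⊤ := by
  rw [eq_top_iff, ← closure_transvections (ι := Fin (n + 1)) (F := k), Subgroup.closure_le]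
  rintro g ⟨a, b, hab, t, rfl⟩
  rw [← tv_of_ne hab]
  refine mem_of_simple (fun a b t => tv a b t) (fun a b c h1 h2 h3 s t => tv_comm h1 h2 h3 s t)
    (Subgroup.closure {g : SpecialLinearGroup (Fin (n + 1)) k |
      ∃ (i : Fin n) (s : k), g = tv i.castSucc i.succ s ∨ g = tv i.succ i.castSucc s})
    (fun i t => ?_) (fun i t => ?_) a b hab t
  · exact Subgroup.subset_closure ⟨i, t, Or.inl rfl⟩
  · exact Subgroup.subset_closure ⟨i, t, Or.inr rfl⟩

theorem tv_swap {a b c : Fin (n + 1)} (hab : a ≠ b) (hbc : b ≠ c) (hac : a ≠ c) (s t : k) :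
    tv a b s * tv b c t = tv a c (s * t) * tv b c t * tv a b s := by
  rw [← tv_comm hab hbc hac, commutatorElement_def]
  group

/-- the commutator formula -/
theorem cmt_A (i : Fin n) (b : Pos n) (s : k) : ∃ l : List (Pos n × k × ℕ), (∀ a ∈ l, 0 < a.2.2) ∧
    ∀ t : k, tv i.castSucc i.succ (-s) * tv b.1.1 b.1.2 t * tv i.castSucc i.succ s =
      (l.map fun a => tv a.1.1.1 a.1.1.2 (a.2.1 * t ^ a.2.2)).prod := by
  obtain ⟨⟨a, c⟩, hac⟩ := b
  have hac' : a < c := hac
  have hi := cs_ne i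
  have hil : i.castSucc < i.succ := Fin.castSucc_lt_succ
  by_cases h1 : c = i.castSucc
  · subst h1
    refine ⟨[(⟨(a, i.castSucc), hac⟩, 1, 1), (⟨(a, i.succ), hac'.trans hil⟩, s, 1)], by simp, fun t => ?_⟩
    have h2 := tv_swap (k := k) hac'.ne hi (hac'.trans hil).ne t s
    simp only [List.map_cons, List.map_nil, List.prod_cons, List.prod_nil, one_mul, mul_one, pow_one]
    show tv i.castSucc i.succ (-s) * tv a i.castSucc t * tv i.castSucc i.succ s = tv a i.castSucc t * tv a i.succ (s * t)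
    rw [mul_assoc, h2]
    have h3 : Commute (tv a i.succ (t * s)) (tv i.castSucc i.succ s) :=
      tv_commute hi.symm (hac'.trans hil).ne _ _
    have h4 : Commute (tv a i.succ (t * s)) (tv a i.castSucc t) :=
      tv_commute (hac'.trans hil).ne' hac'.ne _ _
    rw [h3.eq, ← mul_assoc, ← mul_assoc, ← tv_add, neg_add_cancel, tv_zero, one_mul, h4.eq, mul_comm s t]
  · by_cases h2 : a = i.succ
    · subst h2
      refine ⟨[(⟨(i.castSucc, c), hil.trans hac'⟩, -s, 1), (⟨(i.succ, c), hac⟩, 1, 1)], by simp, fun t => ?_⟩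
      have h3 := tv_swap (k := k) hi hac'.ne (hil.trans hac').ne (-s) t
      simp only [List.map_cons, List.map_nil, List.prod_cons, List.prod_nil, one_mul, mul_one, pow_one]
      show tv i.castSucc i.succ (-s) * tv i.succ c t * tv i.castSucc i.succ s = tv i.castSucc c (-s * t) * tv i.succ c t
      rw [h3, mul_assoc, mul_assoc, ← tv_add, neg_add_cancel, tv_zero, mul_one]
    · refine ⟨[(⟨(a, c), hac⟩, 1, 1)], by simp, fun t => ?_⟩
      simp only [List.map_cons, List.map_nil, List.prod_cons, List.prod_nil, one_mul, mul_one, pow_one]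
      show tv i.castSucc i.succ (-s) * tv a c t * tv i.castSucc i.succ s = tv a c t
      have h3 : Commute (tv i.castSucc i.succ (-s)) (tv a c t) := tv_commute (fun h => h2 h.symm) (fun h => h1 h.symm) _ _
      rw [h3.eq, mul_assoc, ← tv_add, neg_add_cancel, tv_zero, mul_one]

/-- **the group data of `SL_{n+1}`** -/
noncomputable def gdA (n : ℕ) (k : Type*) [Field k] : GDat (Fin n) (Pos n) k (SpecialLinearGroup (Fin (n + 1)) k) where
  x i s := tv i.castSucc i.succ s
  y i s := tv i.succ i.castSucc s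
  z b s := tv b.1.1 b.1.2 s
  zi i := ⟨(i.castSucc, i.succ), Fin.castSucc_lt_succ⟩
  ht b := 2 * ((b.1.2 : ℕ) - (b.1.1 : ℕ))
  T := T (Fin (n + 1)) k
  δ := dlt n
  hh := hA
  τ g := g.transpose
  ht_pos b := by
    have h : (b.1.1 : ℕ) < b.1.2 := b.2
    omega
  x_eq _ _ := rfl
  z_add b s t := tv_add _ _ s t
  y_add i s t := tv_add _ _ s t
  δ_mul s t := by
    apply Subtype.ext
    show diagonal _ = diagonal _ * diagonal _
    rw [diagonal_mul_diagonal]
    congr 1
    funext a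
    show (((s * t) ^ ((n : ℤ) - 2 * (a : ℕ)) : kˣ) : k) = _
    rw [_root_.mul_zpow, Units.val_mul]
  δ_mem s := dl_mem _ _
  hh_mem i c := diag_mem_T _ _
  δ_z s b a := by
    have h : (b.1.1 : ℕ) < b.1.2 := b.2
    rw [T_tv (t := dlt n s) (dl_mem _ _) b.2.ne]
    congr 2
    show (diagonal _ : Matrix _ _ k) b.1.1 b.1.1 * a * ((diagonal _ : Matrix _ _ k) b.1.2 b.1.2)⁻¹ = _
    rw [diagonal_apply_eq, diagonal_apply_eq, ← Units.val_inv_eq_inv_val, ← Units.val_pow_eq_pow_val, mul_right_comm,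
      ← Units.val_mul]
    congr 2
    rw [← _root_.zpow_neg, ← _root_.zpow_add, ← zpow_natCast]
    congr 1
    push_cast [Nat.cast_sub h.le]
    ring
  T_x t ht i := ⟨(t.1 i.castSucc i.castSucc)⁻¹ * t.1 i.succ i.succ, fun a => tv_T ht (cs_ne i) a⟩
  T_y t ht i := ⟨t.1 i.succ i.succ * (t.1 i.castSucc i.castSucc)⁻¹, fun a => by
    rw [T_tv ht (cs_ne i).symm]
    congr 2
    ring⟩
  comm i j a s hij := by
    refine (tv_commute ?_ ?_ a s).eq
    · intro h; exact hij (Fin.succ_injective _ h)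
    · intro h; exact hij (Fin.castSucc_injective _ h)
  rank i a s c hc := by
    have h := congrArg (emb (cs_ne i)) (rank a s c hc)
    simp only [map_mul, emb_up, emb_lo, emb_dg'] at h
    exact h
  gen := gen_A
  cmt := cmt_A
  τ_mul a b := by
    apply Subtype.ext
    exact Matrix.transpose_mul a.1 b.1
  τ_τ a := by
    apply Subtype.ext
    exact Matrix.transpose_transpose a.1
  τ_x i s := tr_tv (cs_ne i) s
  τ_T t ht := by
    apply Subtype.ext
    show t.1.transpose = t.1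
    rw [T_eq_diagonal ht, Matrix.diagonal_transpose]

/-! ### the fundamental functions -/

/-- the leading minors -/
def DA (i : Fin n) (g : SpecialLinearGroup (Fin (n + 1)) k) : k := ld ((i : ℕ) + 1) g.1

theorem upper_tv {a b : Fin (n + 1)} (hab : a < b) (s : k) : ∀ c d, d < c → (tv a b s).1 c d = 0 := by
  intro c d h
  rw [tv_val hab.ne, Matrix.add_apply, Matrix.one_apply_ne h.ne', Matrix.single_apply, if_neg, add_zero]
  rintro ⟨rfl, rfl⟩
  exact absurd (hab.trans h) (lt_irrefl _)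

theorem le_of_fin (i : Fin n) : (i : ℕ) + 1 ≤ n + 1 := by omega

theorem diag_upper (d : Fin (n + 1) → k) : ∀ a b, b < a → (diagonal d : Matrix _ _ k) a b = 0 := fun _ _ h =>
  Matrix.diagonal_apply_ne _ h.ne'

theorem DA_mul_T (i : Fin n) {t : SpecialLinearGroup (Fin (n + 1)) k} (ht : t ∈ T (Fin (n + 1)) k)
    (g : SpecialLinearGroup (Fin (n + 1)) k) : DA i (g * t) = DA i t * DA i g := by
  show ld _ (g.1 * t.1) = ld _ t.1 * ld _ g.1
  rw [ld_mul_upper (le_of_fin i), mul_comm]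
  intro a b h
  rw [T_eq_diagonal ht]
  exact diag_upper _ a b h

theorem sum_exp' (n i : ℕ) : ∑ a : Fin (i + 1), ((n : ℤ) - 2 * (a : ℕ)) = (i + 1) * (n - i) := by
  rw [Fin.sum_univ_eq_sum_range (fun a => (n : ℤ) - 2 * (a : ℕ)) (i + 1)]
  have h : ∀ m : ℕ, ∑ a ∈ Finset.range m, ((n : ℤ) - 2 * (a : ℕ)) = m * n - m * (m - 1) := by
    intro m
    induction m with
    | zero => simp
    | succ m ih => rw [Finset.sum_range_succ, ih]; push_cast; ring
  rw [h]
  push_cast
  ring

theorem DA_dlt (i : Fin n) (s : kˣ) : DA i (dlt n s) = ((s ^ (((i : ℕ) + 1 : ℤ) * (n - (i : ℕ))) : kˣ) : k) := by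
  show ld _ (diagonal _) = _
  rw [ld_diagonal (le_of_fin i), ← sum_exp', ← prod_zpow', Units.coe_prod]
  rfl

theorem DA_hA (i j : Fin n) (c : kˣ) : DA i (hA j c) = if i = j then (c : k) else 1 := by
  show ld _ (diagonal _) = _
  rw [ld_diagonal (le_of_fin i)]
  have hv : ∀ a : Fin ((i : ℕ) + 1), (Fin.castLE (le_of_fin i) a = j.castSucc ↔ (a : ℕ) = j) := fun a => by
    rw [Fin.ext_iff]; rfl
  have hv' : ∀ a : Fin ((i : ℕ) + 1), (Fin.castLE (le_of_fin i) a = j.succ ↔ (a : ℕ) = j + 1) := fun a => by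
    rw [Fin.ext_iff]; rfl
  rcases lt_trichotomy i j with h | h | h
  · have h' : (i : ℕ) < j := h
    rw [if_neg h.ne]
    refine Finset.prod_eq_one fun a _ => ?_
    rw [if_neg (fun h1 => by have := (hv a).1 h1; omega), if_neg (fun h1 => by have := (hv' a).1 h1; omega)]
  · subst h
    rw [if_pos rfl, Finset.prod_eq_single (Fin.last _)]
    · rw [if_pos ((hv _).2 rfl)]
    · intro a _ ha
      have ha' : (a : ℕ) ≠ i := fun h1 => ha (Fin.ext h1)
      rw [if_neg (fun h1 => ha' ((hv a).1 h1)), if_neg (fun h1 => by have := (hv' a).1 h1; omega)]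
    · intro h1; exact absurd (Finset.mem_univ _) h1
  · have h' : (j : ℕ) < i := h
    rw [if_neg h.ne']
    set u : Fin ((i : ℕ) + 1) := ⟨j, by omega⟩ with hu
    set v : Fin ((i : ℕ) + 1) := ⟨(j : ℕ) + 1, by omega⟩ with hv0
    have huv : u ≠ v := fun h1 => by have := congrArg Fin.val h1; simp [hu, hv0] at this
    rw [Finset.prod_eq_mul u v huv]
    · rw [if_pos ((hv _).2 rfl), if_neg (fun h1 => by have := (hv v).1 h1; simp [hv0] at this), if_pos ((hv' _).2 rfl),
        mul_inv_cancel₀ c.ne_zero]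
    · intro a _ ha
      rw [if_neg (fun h1 => ha.1 (Fin.ext ((hv a).1 h1))), if_neg (fun h1 => ha.2 (Fin.ext ((hv' a).1 h1)))]
    · intro h1; exact absurd (Finset.mem_univ _) h1
    · intro h1; exact absurd (Finset.mem_univ _) h1

/-- entries of a product with a transvection in the middle -/
theorem pol_z_A (i : Fin n) (b : Pos n) (g h : SpecialLinearGroup (Fin (n + 1)) k) :
    ∃ P : Polynomial k, P.natDegree ≤ n + 1 ∧ ∀ s, DA i (g * tv b.1.1 b.1.2 s * h) = P.eval s := by
  classical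
  set E : Matrix (Fin (n + 1)) (Fin (n + 1)) k := g.1 * single b.1.1 b.1.2 1 * h.1 with hE
  set Q : Fin (n + 1) → Fin (n + 1) → Polynomial k := fun u v =>
    Polynomial.C ((g.1 * h.1) u v) + Polynomial.C (E u v) * Polynomial.X with hQ
  have hd : ∀ u v, (Q u v).natDegree ≤ 1 := by
    intro u v
    rw [hQ]
    refine (Polynomial.natDegree_add_le _ _).trans (max_le ?_ ?_)
    · rw [Polynomial.natDegree_C]; exact Nat.zero_le _
    · exact (Polynomial.natDegree_C_mul_le _ _).trans Polynomial.natDegree_X_le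
  have key := fun s : k => ld_pol (le_of_fin i) (fun s => (g * tv b.1.1 b.1.2 s * h).1) Q 1 hd s (by
    intro u v
    show (g.1 * (tv b.1.1 b.1.2 s).1 * h.1) u v = _
    have e : (single b.1.1 b.1.2 s : Matrix (Fin (n + 1)) (Fin (n + 1)) k) = s • single b.1.1 b.1.2 1 := by
      rw [Matrix.smul_single, smul_eq_mul, mul_one]
    rw [tv_val b.2.ne, e, Matrix.mul_add, Matrix.mul_one, Matrix.add_mul, Matrix.mul_smul, Matrix.smul_mul,
      Matrix.add_apply, Matrix.smul_apply, hQ, ← hE]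
    beta_reduce
    rw [Polynomial.eval_add, Polynomial.eval_mul, Polynomial.eval_C, Polynomial.eval_C, Polynomial.eval_X, smul_eq_mul,
      mul_comm s])
  refine ⟨_, ?_, fun s => (key s).2⟩
  refine (key 0).1.trans ?_
  rw [mul_one]
  exact le_of_fin i

theorem pol_δ_A (i : Fin n) (g h : SpecialLinearGroup (Fin (n + 1)) k) :
    ∃ P : Polynomial k, P.natDegree ≤ n * (n + 1) + (n + 1) * (2 * n) ∧
      ∀ s : kˣ, (s : k) ^ (n * (n + 1)) * DA i (g * dlt n s * h) = P.eval (s : k) := by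
  classical
  set Q : Fin (n + 1) → Fin (n + 1) → Polynomial k := fun u v =>
    ∑ c : Fin (n + 1), Polynomial.C (g.1 u c * h.1 c v) * Polynomial.X ^ (2 * (n - (c : ℕ))) with hQ
  have hd : ∀ u v, (Q u v).natDegree ≤ 2 * n := by
    intro u v
    rw [hQ]
    refine Polynomial.natDegree_sum_le_of_forall_le _ _ fun c _ => ?_
    refine (Polynomial.natDegree_C_mul_X_pow_le _ _).trans ?_
    omega
  have hkey : ∀ s : kˣ, ((s : k) ^ n) • (g * dlt n s * h).1 = Matrix.of fun u v => (Q u v).eval (s : k) := by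
    intro s
    ext u v
    rw [Matrix.smul_apply, Matrix.of_apply, hQ]
    show (s : k) ^ n • (g.1 * diagonal (fun a : Fin (n + 1) => ((s ^ ((n : ℤ) - 2 * (a : ℕ)) : kˣ) : k)) * h.1) u v = _
    rw [Matrix.mul_apply, smul_eq_mul, Finset.mul_sum, Polynomial.eval_finsetSum]
    refine Finset.sum_congr rfl fun c _ => ?_
    rw [Matrix.mul_diagonal, Polynomial.eval_mul, Polynomial.eval_C, Polynomial.eval_pow, Polynomial.eval_X]
    have hc : (c : ℕ) ≤ n := by omega
    have e : (s : k) ^ n * ((s ^ ((n : ℤ) - 2 * (c : ℕ)) : kˣ) : k) = (s : k) ^ (2 * (n - (c : ℕ))) := by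
      rw [← Units.val_pow_eq_pow_val, ← Units.val_mul, ← Units.val_pow_eq_pow_val]
      congr 1
      rw [← zpow_natCast, ← zpow_natCast, ← _root_.zpow_add]
      congr 1
      push_cast [Nat.cast_sub hc]
      ring
    rw [← e]
    ring
  have hsm : ∀ (c : k) (M : Matrix (Fin (n + 1)) (Fin (n + 1)) k), ld ((i : ℕ) + 1) (c • M) =
      c ^ ((i : ℕ) + 1) * ld ((i : ℕ) + 1) M := by
    intro c M
    rw [ld_eq (le_of_fin i), ld_eq (le_of_fin i)]
    have e : blk (le_of_fin i) (c • M) = c • blk (le_of_fin i) M := rfl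
    rw [e, det_smul, Fintype.card_fin]
  have key := fun s : k => ld_pol (le_of_fin i) (fun s : k => Matrix.of fun u v => (Q u v).eval s) Q (2 * n) hd s
    (fun u v => rfl)
  set P0 := (Matrix.of fun a b : Fin ((i : ℕ) + 1) => Q (Fin.castLE (le_of_fin i) a) (Fin.castLE (le_of_fin i) b)).det
    with hP0
  refine ⟨Polynomial.X ^ (n * (n + 1) - n * ((i : ℕ) + 1)) * P0, ?_, fun s => ?_⟩
  · refine (Polynomial.natDegree_mul_le).trans (Nat.add_le_add ?_ ?_)
    · exact (Polynomial.natDegree_X_pow_le _).trans (Nat.sub_le _ _)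
    · exact (key 0).1.trans (Nat.mul_le_mul_right _ (le_of_fin i))
  · have h1 := (key s).2
    have h1' : ld ((i : ℕ) + 1) (Matrix.of fun u v => (Q u v).eval (s : k)) = P0.eval (s : k) := h1
    rw [← hkey, hsm] at h1'
    rw [Polynomial.eval_mul, Polynomial.eval_pow, Polynomial.eval_X, ← h1']
    show _ * ld ((i : ℕ) + 1) (g * dlt n s * h).1 = _
    rw [← mul_assoc, ← pow_mul, ← pow_add]
    congr 2
    have h2 : n * ((i : ℕ) + 1) ≤ n * (n + 1) := Nat.mul_le_mul_left _ (le_of_fin i)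
    omega

/-- **the fundamental functions of `SL_{n+1}`** -/
noncomputable def fdA (n : ℕ) (k : Type*) [Field k] : FDat (Fin n) (Pos n) k (SpecialLinearGroup (Fin (n + 1)) k) where
  toGDat := gdA n k
  Δ := DA
  wt i := ((i : ℕ) + 1 : ℤ) * (n - (i : ℕ))
  N := n * (n + 1) + (n + 1) * (2 * n) + (n + 1)
  M := n * (n + 1)
  Δ_one i := ld_one (le_of_fin i)
  Δ_z i b g s := by
    show ld _ (g.1 * (tv b.1.1 b.1.2 s).1) = ld _ g.1
    rw [ld_mul_upper (le_of_fin i) _ _ (upper_tv b.2 s), ld_upper (le_of_fin i) _ (upper_tv b.2 s), mul_one]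
    intro a
    rw [tv_val b.2.ne, Matrix.add_apply, Matrix.one_apply_eq, Matrix.single_apply, if_neg, add_zero]
    rintro ⟨h1, h2⟩
    exact b.2.ne (h1.trans h2.symm)
  Δ_T i t ht g := DA_mul_T i ht g
  Δ_hh i j c := DA_hA i j c
  Δ_δ i s := DA_dlt i s
  Δ_τ i g := ld_transpose (le_of_fin i) g.1
  pol_z i b g h := by
    obtain ⟨P, hP, h1⟩ := pol_z_A i b g h
    exact ⟨P, hP.trans (Nat.le_add_left _ _), h1⟩
  pol_δ i g h := by
    obtain ⟨P, hP, h1⟩ := pol_δ_A i g h
    exact ⟨P, hP.trans (Nat.le_add_right _ _), h1⟩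

end Cfsg.Agent.H356.TA
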